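/-
`δ_i x = x^(p^i-1) dx` is additive modulo the group generated by the `δ_j`, `j < i`, over a perfect field of
characteristic `p`; the recursively defined sets `Σ^i` are these groups.
-/
import Mathlib
import Groth.Prelude.Def_W4bk4bump814p2PDiff

set_option autoImplicit false

universe u v

namespace Groth.Agent.PDiffSigma

open W4bk4bump814p2

variable (K : Type u) (A : Type v) [Field K] [PerfectField K] (p : ℕ) [Fact p.Prime] [CharP K p]
  [CommRing A] [Algebra K A]

/-- the subgroup generated by `δ_j`, `j < i` -/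
noncomputable def G (i : ℕ) : AddSubgroup (Ω[A⁄K]) :=
  AddSubgroup.closure (⋃ j ∈ Finset.range i, Set.range (delta K A p j))

omit [PerfectField K] [Fact p.Prime] [CharP K p] in
theorem delta_mem {i j : ℕ} (h : j < i) (x : A) : delta K A p j x ∈ G K A p i :=
  AddSubgroup.subset_closure (Set.mem_iUnion₂.2 ⟨j, Finset.mem_range.2 h, x, rfl⟩)

theorem smul_delta (j : ℕ) (c : K) (x : A) : ∃ y : A, c • delta K A p j x = delta K A p j y := by
  have : PerfectRing K p := PerfectField.toPerfectRing p
  obtain ⟨μ, hμ⟩ := (bijective_iterateFrobenius (R := K) p j).2 c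
  refine ⟨μ • x, ?_⟩
  have hq : p ^ j - 1 + 1 = p ^ j := Nat.sub_add_cancel (Nat.one_le_pow _ _ (Fact.out : p.Prime).pos)
  rw [delta, delta, (KaehlerDifferential.D K A).map_smul, smul_pow, ← hμ, iterateFrobenius_def]
  conv_lhs => rw [← hq, pow_succ, mul_smul]
  simp only [← algebraMap_smul A (μ ^ (p ^ j - 1)), ← algebraMap_smul A μ, smul_smul, smul_eq_mul]
  congr 1
  rw [Nat.add_sub_cancel]
  ring

theorem K_smul_mem (i : ℕ) (c : K) {ω : Ω[A⁄K]} (h : ω ∈ G K A p i) : c • ω ∈ G K A p i := by
  induction h using AddSubgroup.closure_induction with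
  | mem z hz =>
    obtain ⟨j, hj, x, rfl⟩ := Set.mem_iUnion₂.1 hz
    obtain ⟨y, hy⟩ := smul_delta K A p j c x
    rw [hy]
    exact delta_mem K A p (Finset.mem_range.1 hj) y
  | zero => rw [smul_zero]; exact zero_mem _
  | add a b _ _ ha hb => rw [smul_add]; exact add_mem ha hb
  | neg a _ ha => rw [smul_neg]; exact neg_mem ha

theorem delta_add (i : ℕ) (x y : A) :
    delta K A p i (x + y) - delta K A p i x - delta K A p i y ∈ G K A p i := by
  have hp : p.Prime := Fact.out
  obtain ⟨N, hN⟩ : ∃ N, p ^ i = N + 1 := ⟨p ^ i - 1, (Nat.sub_add_cancel (Nat.one_le_pow _ _ hp.pos)).symm⟩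
  let a : ℕ → Ω[A⁄K] := fun m => (x ^ m * y ^ (N - m) * (N.choose m : A)) • KaehlerDifferential.D K A x
  let b : ℕ → Ω[A⁄K] := fun m => (x ^ m * y ^ (N - m) * (N.choose m : A)) • KaehlerDifferential.D K A y
  have e : delta K A p i (x + y) - delta K A p i x - delta K A p i y = ∑ m ∈ Finset.range N, (a m + b (m + 1)) := by
    simp only [delta, hN, Nat.add_sub_cancel, map_add, smul_add]
    rw [add_pow, Finset.sum_smul, Finset.sum_smul, Finset.sum_range_succ, Finset.sum_range_succ' _ N,
      Finset.sum_add_distrib]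
    simp only [Nat.sub_self, pow_zero, mul_one, one_mul, Nat.choose_self, Nat.choose_zero_right, Nat.cast_one,
      Nat.sub_zero, a, b]
    abel
  rw [e]
  refine AddSubgroup.sum_mem _ fun m hm => ?_
  rw [Finset.mem_range] at hm
  obtain ⟨s, k', hk', hk⟩ := Nat.exists_eq_pow_mul_and_not_dvd (show m + 1 ≠ 0 by omega) p hp.ne_one
  have hsi : s < i := by
    by_contra hh
    have h1 : p ^ i ∣ m + 1 := (pow_dvd_pow p (not_lt.1 hh)).trans ⟨k', hk⟩
    have := Nat.le_of_dvd (Nat.succ_pos m) h1
    omega
  obtain ⟨m', hm'⟩ : ∃ m', N - m = p ^ s * m' := by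
    have h1 : p ^ s ∣ p ^ i - (m + 1) := Nat.dvd_sub (pow_dvd_pow p hsi.le) ⟨k', hk⟩
    rw [hN, Nat.add_sub_add_right] at h1
    exact h1
  have hk0 : (k' : K) ≠ 0 := fun h => hk' ((CharP.cast_eq_zero_iff K p k').1 h)
  have hkpos : k' ≠ 0 := fun h => hk' (h ▸ dvd_zero p)
  have hmpos : m' ≠ 0 := by rintro rfl; rw [mul_zero] at hm'; omega
  set c : K := (N.choose m : K) * (k' : K)⁻¹ with hc
  have hck : c * (k' : K) = (N.choose m : K) := by rw [hc, mul_assoc, inv_mul_cancel₀ hk0, mul_one]
  have hcm : c * (m' : K) = (N.choose (m + 1) : K) := by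
    have h1 := Nat.choose_succ_right_eq N m
    rw [hk, hm'] at h1
    have h2 : N.choose (m + 1) * k' = N.choose m * m' := by
      have := Nat.eq_of_mul_eq_mul_left (Nat.pow_pos hp.pos (n := s))
        (show p ^ s * (N.choose (m + 1) * k') = p ^ s * (N.choose m * m') by rw [hk] ; linarith)
      exact this
    have h3 : ((N.choose (m + 1) * k' : ℕ) : K) = ((N.choose m * m' : ℕ) : K) := congrArg _ h2
    push_cast at h3
    rw [hc]
    field_simp
    linear_combination -h3
  obtain ⟨q, hq⟩ : ∃ q, p ^ s = q + 1 := ⟨p ^ s - 1, (Nat.sub_add_cancel (Nat.one_le_pow _ _ hp.pos)).symm⟩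
  suffices h : a m + b (m + 1) = c • delta K A p s (x ^ k' * y ^ m') by
    rw [h]; exact K_smul_mem K A p i c (delta_mem K A p hsi _)
  have ek : k' * q + (k' - 1) = m := by rw [hq] at hk; have : k' * q + k' = m + 1 := by rw [hk]; ring
                                        omega
  have em : m' * q + (m' - 1) = N - (m + 1) := by
    rw [hq] at hm'; have : m' * q + m' = N - m := by rw [hm']; ring
    omega
  have ek2 : k' * q + k' = m + 1 := by omega
  have em2 : m' * q + m' = N - m := by omega
  simp only [delta, hq, Nat.add_sub_cancel, a, b, Derivation.leibniz, Derivation.leibniz_pow]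
  rw [← algebraMap_smul A c]
  simp only [← Nat.cast_smul_eq_nsmul A, smul_smul, smul_add, smul_eq_mul]
  rw [add_comm]
  congr 1
  · congr 1
    rw [← map_natCast (algebraMap K A) (N.choose (m + 1)), ← hcm, ← em, ← ek2]
    simp only [pow_add, mul_pow, map_mul, map_natCast, ← pow_mul]
    ring
  · congr 1
    rw [← map_natCast (algebraMap K A) (N.choose m), ← hck, ← em2, ← ek]
    simp only [pow_add, mul_pow, map_mul, map_natCast, ← pow_mul]
    ring

theorem sigma_eq (i : ℕ) : sigma K A p i = (G K A p i : Set (Ω[A⁄K])) := by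
  induction i with
  | zero => simp [G]
  | succ i ih =>
    rw [sigma_succ, ih]
    have hle : G K A p i ≤ G K A p (i + 1) := AddSubgroup.closure_mono (Set.biUnion_subset_biUnion_left
      (fun j hj => Finset.mem_range.2 (Nat.lt_succ_of_lt (Finset.mem_range.1 hj))))
    have h0 : delta K A p i 0 = 0 := by simp [delta]
    refine Set.Subset.antisymm ?_ fun ω hω => ?_
    · rintro ω ⟨x, hx⟩
      simpa using add_mem (hle hx) (delta_mem K A p (Nat.lt_succ_self i) x)
    · induction hω using AddSubgroup.closure_induction with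
      | mem z hz =>
        obtain ⟨j, hj, x, rfl⟩ := Set.mem_iUnion₂.1 hz
        rcases Nat.lt_succ_iff_lt_or_eq.1 (Finset.mem_range.1 hj) with h | rfl
        · exact ⟨0, by rw [h0, sub_zero]; exact delta_mem K A p h x⟩
        · exact ⟨x, by rw [sub_self]; exact zero_mem _⟩
      | zero => exact ⟨0, by rw [h0, sub_zero]; exact zero_mem _⟩
      | add a b _ _ ha hb =>
        obtain ⟨x, hx⟩ := ha
        obtain ⟨y, hy⟩ := hb
        refine ⟨x + y, ?_⟩
        have := sub_mem (add_mem hx hy) (delta_add K A p i x y)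
        show a + b - delta K A p i (x + y) ∈ G K A p i
        convert this using 1
        abel
      | neg a _ ha =>
        obtain ⟨x, hx⟩ := ha
        refine ⟨-x, ?_⟩
        have h1 := delta_add K A p i x (-x)
        rw [add_neg_cancel, h0] at h1
        have := sub_mem h1 hx
        show -a - delta K A p i (-x) ∈ G K A p i
        convert this using 1
        abel

theorem pow_smul_mem (i : ℕ) (x : A) {ω : Ω[A⁄K]} (h : ω ∈ G K A p i) : x ^ p ^ i • ω ∈ G K A p i := by
  induction h using AddSubgroup.closure_induction with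
  | mem z hz =>
    obtain ⟨j, hj, w, rfl⟩ := Set.mem_iUnion₂.1 hz
    have hj' := Finset.mem_range.1 hj
    have hd : KaehlerDifferential.D K A (x ^ p ^ (i - j)) = 0 := by
      rw [Derivation.leibniz_pow, ← Nat.cast_smul_eq_nsmul A, ← map_natCast (algebraMap K A)]
      rw [(CharP.cast_eq_zero_iff K p _).2 (dvd_pow_self p (by omega)), map_zero, zero_smul]
    have e : x ^ p ^ i • delta K A p j w = delta K A p j (x ^ p ^ (i - j) * w) := by
      simp only [delta, Derivation.leibniz, hd, smul_zero, add_zero, smul_smul]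
      have e1 : p ^ (i - j) * p ^ j = p ^ i := by rw [← pow_add]; congr 1; omega
      obtain ⟨q, hq⟩ : ∃ q, p ^ j = q + 1 :=
        ⟨p ^ j - 1, (Nat.sub_add_cancel (Nat.one_le_pow _ _ (Fact.out : p.Prime).pos)).symm⟩
      rw [← e1, pow_mul, hq, Nat.add_sub_cancel]
      congr 1
      ring
    rw [e]
    exact delta_mem K A p hj' _
  | zero => rw [smul_zero]; exact zero_mem _
  | add a b _ _ ha hb => rw [smul_add]; exact add_mem ha hb
  | neg a _ ha => rw [smul_neg]; exact neg_mem ha

end Groth.Agent.PDiffSigma
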